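import Mathlib

/-!
The Sylow arithmetic of the five largest primes dividing the order of the fourth Janko group: a
pair `(k, e)` records the index of a Sylow subgroup of order `p` in its centraliser and that of the
centraliser in the normaliser.
-/

set_option autoImplicit false

namespace CfsgLib.J4Type.BigPrimes

/-- The order of the fourth Janko group. -/
def bigOrder : ℕ := 86775571046077562880

/-- The five large primes. -/
def bigList : List ℕ := [23, 29, 31, 37, 43]

/-- The part of the order prime to `210`. -/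
def coreOrder : ℕ := 11 ^ 3 * 23 * 29 * 31 * 37 * 43

/-- All divisors of `coreOrder`. -/
def coreDivs : List ℕ :=
  [23, 29, 31, 37, 43].foldl (fun l p => l ++ l.map (· * p)) [1, 11, 121, 1331]

/-- The possible pairs at `p`. -/
def cands (p : ℕ) : List (ℕ × ℕ) :=
  (coreDivs.flatMap fun k => (List.range p).map fun e => (k, e)).filter fun c =>
    c.1 % p != 0 && ((p - 1) % c.2 == 0 && (bigOrder % (p * c.1 * c.2) == 0 &&
      bigOrder / (p * c.1 * c.2) % p == 1))

/-- If the Sylow `q`-subgroup of a centraliser is normal there, normalisers are comparable. -/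
def dirOK (p q : ℕ) (a b : ℕ × ℕ) : Bool :=
  a.1 % q != 0 || ((coreDivs.any fun d => d != 1 && (a.1 / q % d == 0 && d % q == 1)) ||
    (q * b.1 * b.2) % (p * a.1 * a.2) == 0)

/-- Compatibility of the data at two primes. -/
def pairOK (p q : ℕ) (a b : ℕ × ℕ) : Bool :=
  ((a.1 % q == 0) == (b.1 % p == 0)) && (dirOK p q a b && dirOK q p b a)

/-- The search. -/
def searchOK : Bool :=
  let c23 := (cands 23).filter fun a => a.2 % 11 == 0
  let c29 := cands 29
  let c31 := (cands 31).filter fun a => a.2 % 5 == 0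
  let c37 := cands 37
  let c43 := cands 43
  c23.all fun a => c29.all fun b => !pairOK 23 29 a b || (c31.all fun c =>
    !(pairOK 23 31 a c && pairOK 29 31 b c) || (c37.all fun d =>
    !(pairOK 23 37 a d && (pairOK 29 37 b d && pairOK 31 37 c d)) || (c43.all fun g =>
    !(pairOK 23 43 a g && (pairOK 29 43 b g && (pairOK 31 43 c g && pairOK 37 43 d g))) ||
      (a == (1, 22) && (b == (1, 28) && ((c == (1, 10) || c == (11, 15)) &&
        (d == (1, 12) && g == (1, 14))))))))

theorem searchOK_true : searchOK = true := by decide +kernel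

theorem mem_coreDivs {k : ℕ} (hk : k ∣ coreOrder) : k ∈ coreDivs := by
  have hsplit : ∀ (m p : ℕ) (l : List ℕ), p.Prime → (∀ j, j ∣ m → j ∈ l) →
      ∀ j, j ∣ m * p → j ∈ l ++ l.map (· * p) := by
    intro m p l hp hl j hj
    rw [List.mem_append, List.mem_map]
    by_cases h : p ∣ j
    · obtain ⟨i, rfl⟩ := h
      rw [mul_comm m p] at hj
      exact Or.inr ⟨i, hl i (Nat.dvd_of_mul_dvd_mul_left hp.pos hj), mul_comm i p⟩
    · exact Or.inl (hl j ((((hp.coprime_iff_not_dvd).2 h).symm).dvd_of_dvd_mul_right hj))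
  have h0 : ∀ j, j ∣ 11 ^ 3 → j ∈ ([1, 11, 121, 1331] : List ℕ) := by
    intro j hj
    obtain ⟨i, hi, rfl⟩ := (Nat.dvd_prime_pow (by norm_num)).1 hj
    interval_cases i <;> simp
  have h1 := hsplit _ 23 _ (by norm_num) h0
  have h2 := hsplit _ 29 _ (by norm_num) h1
  have h3 := hsplit _ 31 _ (by norm_num) h2
  have h4 := hsplit _ 37 _ (by norm_num) h3
  exact hsplit _ 43 _ (by norm_num) h4 k hk

theorem mem_cands {p k e : ℕ} (hk : k ∣ coreOrder) (hkp : ¬ p ∣ k) (he : e ∣ p - 1) (hp : 1 < p)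
    (hdvd : p * k * e ∣ bigOrder) (hmod : bigOrder / (p * k * e) % p = 1) : (k, e) ∈ cands p := by
  have he' : e < p := by
    have := Nat.le_of_dvd (by omega) he
    omega
  refine List.mem_filter.2 ⟨List.mem_flatMap.2
    ⟨k, mem_coreDivs hk, List.mem_map.2 ⟨e, List.mem_range.2 he', rfl⟩⟩, ?_⟩
  simp only [Bool.and_eq_true, bne_iff_ne, ne_eq, beq_iff_eq]
  exact ⟨fun h => hkp (Nat.dvd_of_mod_eq_zero h), Nat.mod_eq_zero_of_dvd he,
    Nat.mod_eq_zero_of_dvd hdvd, hmod⟩

/-- The divisor argument behind `dirOK`. -/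
theorem dirOK_of {p q : ℕ} {a b : ℕ × ℕ} (hcore : a.1 ∣ coreOrder)
    (h : q ∣ a.1 → (∀ d, d ∣ a.1 / q → d % q = 1 → d = 1) →
      p * a.1 * a.2 ∣ q * b.1 * b.2) : dirOK p q a b = true := by
  unfold dirOK
  by_cases hq : q ∣ a.1
  swap
  · simp [show a.1 % q ≠ 0 from fun e => hq (Nat.dvd_of_mod_eq_zero e)]
  by_cases hd : (coreDivs.any fun d => d != 1 && (a.1 / q % d == 0 && d % q == 1)) = true
  · simp [hd]
  simp only [Bool.or_eq_true, beq_iff_eq, bne_iff_ne]
  refine Or.inr (Or.inr (Nat.mod_eq_zero_of_dvd (h hq fun d hdd hdm => ?_)))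
  by_contra hd1
  refine hd (List.any_eq_true.2 ⟨d, mem_coreDivs (hdd.trans ((Nat.div_dvd_of_dvd hq).trans hcore)),
    ?_⟩)
  simp [hd1, Nat.mod_eq_zero_of_dvd hdd, hdm]

end CfsgLib.J4Type.BigPrimes
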