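import Cfsg.Agent.Lib.J4Type.Order.Formula
import Cfsg.Agent.Lib.J4Type.Order.TSide
import Cfsg.Agent.Lib.J4Type.Order.ZSide
import Cfsg.Agent.Lib.J4Type.Ident.Main
import Cfsg.Agent.Lib.J4Type.PlaneUnique
import Cfsg.Agent.Lib.J4Type.FusedMain
import Cfsg.Agent.Lib.J4Type.BigPrimes.Arith

/-!
The order of a simple group of Janko-four type.
-/

set_option autoImplicit false

namespace CfsgLib.J4Type.BigPrimes

open Cfsg CfsgLib.J4Type CfsgLib.J4Type.Frame

theorem natCard_eq {G : Type*} [Group G] [Finite G] [IsSimpleGroup G] (hG : ¬ IsMulCommutative G)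
    (hJ : IsOfJankoFourType G) : Nat.card G = bigOrder := by
  obtain ⟨z, P, hP⟩ := hJ
  obtain ⟨F⟩ := frame_exists hP
  obtain ⟨D⟩ := vData_exists F
  have hf := fused_exists hG D
  obtain ⟨s, hs⟩ := exists_pairV D hf
  obtain ⟨hc, hn, hat⟩ := Order.tSide D hf hs
  exact (Order.main_of_counts D hf hs hc
    (Order.zSide D hf hs (Order.classes D hf hs) hc hn) hat).1.2

end CfsgLib.J4Type.BigPrimes
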