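import Cfsg.Agent.Lib.J4Type.BigPrimes.Main
import Cfsg.Agent.Lib.J4Type.CoreP.M22Facts
import Cfsg.Agent.Lib.Golay.PSL23
import Cfsg.Agent.S5563
import Cfsg.Agent.S5564
import Cfsg.Agent.S5567
import Cfsg.Agent.S5569
import Cfsg.Agent.S5572
import Cfsg.Agent.S5573

/-!
The facts of `BigPrimes.Facts` for a simple group of Janko-four type of the right order.
-/

set_option autoImplicit false
set_option linter.unusedSectionVars false
set_option linter.style.haveILetI false

namespace CfsgLib.J4Type.BigPrimes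

open Cfsg Subgroup

variable {G : Type*} [Group G] [Finite G]

theorem exists_two_power_move {K : Subgroup G} (e : ↥K ≃* ↥M24) :
    ∃ u b : G, orderOf u = 23 ∧ b * u * b⁻¹ = u ^ 2 := by
  let s : ↥M24 := ⟨Golay.shiftP, Golay.shiftP_mem⟩
  let m : ↥M24 := ⟨_, Golay.twoP_mem⟩
  have hs : orderOf s = 23 := by
    rw [← Subgroup.orderOf_coe]
    refine orderOf_eq_prime (hp := ⟨by norm_num⟩) (Equiv.ext fun p => ?_) fun h => ?_
    · rcases p with _ | t
      · exact Golay.shiftP_pow_none 23
      · show (Golay.shiftP ^ 23) (some t) = some t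
        rw [Golay.shiftP_pow, show ((23 : ℕ) : ZMod 23) = 0 from ZMod.natCast_self 23, add_zero]
    · have h1 : Golay.shiftP (some 0) = some 0 := by
        rw [show Golay.shiftP = 1 from h]; rfl
      exact absurd h1 (by decide)
  have hm : m * s * m⁻¹ = s ^ 2 := by
    rw [mul_inv_eq_iff_eq_mul]
    exact Subtype.ext (Golay.mulLeft_shift Golay.two23)
  refine ⟨((e.symm s : K) : G), ((e.symm m : K) : G), ?_, ?_⟩
  · rw [Subgroup.orderOf_coe, MulEquiv.orderOf_eq, hs]
  · rw [← Subgroup.coe_inv, ← Subgroup.coe_mul, ← Subgroup.coe_mul, ← map_inv, ← map_mul,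
      ← map_mul, hm, map_pow, SubgroupClass.coe_pow]

/-- The companion matrix of `X ^ 5 + X ^ 2 + 1`. -/
def singerFive : Matrix (Fin 5) (Fin 5) (ZMod 2) :=
  !![0, 0, 0, 0, 1; 1, 0, 0, 0, 0; 0, 1, 0, 0, 1; 0, 0, 1, 0, 0; 0, 0, 0, 1, 0]

/-- The squaring map in the same basis. -/
def frobFive : Matrix (Fin 5) (Fin 5) (ZMod 2) :=
  !![1, 0, 0, 0, 1; 0, 0, 0, 1, 0; 0, 1, 0, 0, 1; 0, 0, 0, 1, 1; 0, 0, 1, 0, 0]

theorem exists_move_thirtyone {B : Subgroup G}
    (e : ↥B ≃* Matrix.SpecialLinearGroup (Fin 5) (ZMod 2)) :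
    ∃ u b : G, orderOf u = 31 ∧ b * u * b⁻¹ = u ^ 2 := by
  have hdet : ∀ M : Matrix (Fin 5) (Fin 5) (ZMod 2), M.det ≠ 0 → M.det = 1 := fun M h => by
    have : ∀ x : ZMod 2, x ≠ 0 → x = 1 := by decide
    exact this _ h
  have hpow31 : singerFive ^ 31 = 1 := by decide +kernel
  have hmove : frobFive * singerFive = singerFive ^ 2 * frobFive := by decide +kernel
  have hne : singerFive ≠ 1 := by decide +kernel
  have hF5 : frobFive ^ 5 = 1 := by decide +kernel
  have d1 : singerFive.det ≠ 0 := fun h => by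
    have := congr_arg Matrix.det hpow31
    rw [Matrix.det_pow, h, Matrix.det_one, zero_pow (by norm_num)] at this
    exact zero_ne_one this
  have d2 : frobFive.det ≠ 0 := fun h => by
    have := congr_arg Matrix.det hF5
    rw [Matrix.det_pow, h, Matrix.det_one, zero_pow (by norm_num)] at this
    exact zero_ne_one this
  let s : Matrix.SpecialLinearGroup (Fin 5) (ZMod 2) := ⟨singerFive, hdet _ d1⟩
  let m : Matrix.SpecialLinearGroup (Fin 5) (ZMod 2) := ⟨frobFive, hdet _ d2⟩
  have hs : orderOf s = 31 := by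
    refine orderOf_eq_prime (hp := ⟨by norm_num⟩) (Subtype.ext ?_) fun h => hne ?_
    · rw [Matrix.SpecialLinearGroup.coe_pow]
      exact hpow31
    · exact congr_arg Subtype.val h
  have hm : m * s * m⁻¹ = s ^ 2 := by
    rw [mul_inv_eq_iff_eq_mul]
    refine Subtype.ext ?_
    rw [Matrix.SpecialLinearGroup.coe_mul, Matrix.SpecialLinearGroup.coe_mul,
      Matrix.SpecialLinearGroup.coe_pow]
    exact hmove
  refine ⟨((e.symm s : B) : G), ((e.symm m : B) : G), ?_, ?_⟩
  · rw [Subgroup.orderOf_coe, MulEquiv.orderOf_eq, hs]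
  · rw [← Subgroup.coe_inv, ← Subgroup.coe_mul, ← Subgroup.coe_mul, ← map_inv, ← map_mul,
      ← map_mul, hm, map_pow, SubgroupClass.coe_pow]

theorem card_centralizer_conj (c x : G) :
    Nat.card (centralizer ({c * x * c⁻¹} : Set G)) = Nat.card (centralizer ({x} : Set G)) := by
  have h : centralizer ({c * x * c⁻¹} : Set G) =
      (centralizer ({x} : Set G)).map (MulAut.conj c).toMonoidHom := by
    ext g
    rw [mem_map_equiv, MulAut.conj_symm_apply, mem_centralizer_singleton_iff,
      mem_centralizer_singleton_iff]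
    constructor
    · intro h
      calc c⁻¹ * g * c * x = c⁻¹ * (g * (c * x * c⁻¹)) * c := by group
        _ = c⁻¹ * (c * x * c⁻¹ * g) * c := by rw [h]
        _ = x * (c⁻¹ * g * c) := by group
    · intro h
      calc g * (c * x * c⁻¹) = c * (c⁻¹ * g * c * x) * c⁻¹ := by group
        _ = c * (x * (c⁻¹ * g * c)) * c⁻¹ := by rw [h]
        _ = c * x * c⁻¹ * g := by group
  rw [h, ← Nat.card_congr ((centralizer ({x} : Set G)).equivMapOfInjective
    (MulAut.conj c).toMonoidHom (MulAut.conj c).injective).toEquiv]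

theorem centralizer_zpowers' (x : G) :
    centralizer ((zpowers x : Subgroup G) : Set G) = centralizer ({x} : Set G) := by
  rw [Subgroup.zpowers_eq_closure, Subgroup.centralizer_closure]

/-- The centraliser of a subgroup of prime order `p` with `p ^ 2 ∤ |G|` gives every centraliser. -/
theorem cent_of_sylow_prime {p : ℕ} [Fact p.Prime] {Q : Subgroup G} (hQ : Nat.card Q = p)
    (hp2 : ¬ p ^ 2 ∣ Nat.card G) {x : G} (hx : orderOf x = p) :
    Nat.card (centralizer ({x} : Set G)) = Nat.card (centralizer (Q : Set G)) := by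
  have hp : p.Prime := Fact.out
  have hf : (Nat.card G).factorization p = 1 := by
    refine le_antisymm ?_ ?_
    · by_contra h
      exact hp2 ((hp.pow_dvd_iff_le_factorization Nat.card_pos.ne').2 (by omega))
    · exact (hp.pow_dvd_iff_le_factorization Nat.card_pos.ne').1
        (by rw [pow_one]; exact hQ ▸ card_subgroup_dvd_card Q)
  let P : Sylow p G := Sylow.ofCard Q (by rw [hf, pow_one, hQ])
  let R : Sylow p G := Sylow.ofCard (zpowers x) (by rw [hf, pow_one, Nat.card_zpowers, hx])
  obtain ⟨⟨w, hwQ⟩, hw⟩ := exists_prime_orderOf_dvd_card' (G := Q) p (by rw [hQ])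
  rw [Subgroup.orderOf_mk] at hw
  have hQw : Q = zpowers w :=
    (eq_of_le_of_card_ge (zpowers_le.2 hwQ) (by rw [Nat.card_zpowers, hw, hQ])).symm
  obtain ⟨g, hg⟩ := MulAction.exists_smul_eq G P R
  have h1 : Q.map (MulAut.conj g).toMonoidHom = zpowers x := by
    rw [show zpowers x = (R : Subgroup G) from rfl, ← hg]; rfl
  rw [hQw, MonoidHom.map_zpowers] at h1
  rw [hQw, centralizer_zpowers', ← card_centralizer_conj g w, ← centralizer_zpowers' x, ← h1,
    centralizer_zpowers']
  rfl

theorem facts_of [IsSimpleGroup G] (hG : ¬ IsMulCommutative G) (hJ : IsOfJankoFourType G)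
    (hcard : Nat.card G = bigOrder)
    (hL5 : ∃ B : Subgroup G, Nonempty (↥B ≃* Matrix.SpecialLinearGroup (Fin 5) (ZMod 2))) :
    Facts G := by
  obtain ⟨z, hzat⟩ := hJ
  have hJ' : IsOfJankoFourType G := ⟨z, hzat⟩
  obtain ⟨P, hzP⟩ := hzat
  have hzat' : IsOfJankoFourTypeAt z := ⟨P, hzP⟩
  obtain ⟨F⟩ := frame_exists hzP
  obtain ⟨D⟩ := vData_exists F
  have hH : Nat.card (Cen z) = 2 ^ 13 * 3 * 887040 := F.card_cen
  have hP : Nat.card P = 3 := hzP.2.2.2.2.2.1
  haveI : Fact (Nat.Prime 3) := ⟨by norm_num⟩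
  haveI : Fact (Nat.Prime 5) := ⟨by norm_num⟩
  haveI : Fact (Nat.Prime 7) := ⟨by norm_num⟩
  obtain ⟨⟨p, hpP⟩, hp⟩ := exists_prime_orderOf_dvd_card' (G := P) 3 (by rw [hP])
  rw [Subgroup.orderOf_mk] at hp
  have hPp : P = zpowers p :=
    (eq_of_le_of_card_ge (zpowers_le.2 hpP) (by rw [Nat.card_zpowers, hp, hP])).symm
  obtain ⟨-, hcyc, hZ, ⟨eM⟩, hNP⟩ := Cfsg.Agent.S5563.result hG z P hzP
  have hCp : centralizer ({p} : Set G) = CP z P := by
    rw [← centralizer_zpowers' p, ← hPp]
    exact le_antisymm (le_inf ((Subgroup.centralizer_le_normalizer _).trans hNP) le_rfl) inf_le_right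
  -- elements of order five and seven
  obtain ⟨⟨q5, hq5⟩, ho5⟩ := exists_prime_orderOf_dvd_card' (G := Cen z) 5 (by rw [hH]; norm_num)
  rw [Subgroup.orderOf_mk] at ho5
  obtain ⟨⟨q7, hq7⟩, ho7⟩ := exists_prime_orderOf_dvd_card' (G := Cen z) 7 (by rw [hH]; norm_num)
  rw [Subgroup.orderOf_mk] at ho7
  obtain ⟨n25, -, -, hN5⟩ := Cfsg.Agent.S5572.result hG z hzat' (zpowers q5)
    (by rw [Nat.card_zpowers, ho5]) (zpowers_le.2 hq5)
  obtain ⟨n49, -, -, hN7⟩ := Cfsg.Agent.S5573.result hG z hzat' (zpowers q7)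
    (by rw [Nat.card_zpowers, ho7]) (zpowers_le.2 hq7)
  have h5 : ∀ x : G, orderOf x = 5 → Nat.card (centralizer ({x} : Set G)) ∣ 2 ^ 8 * 3 * 5 * 7 :=
    fun x hx => by
      rw [cent_of_sylow_prime (Q := zpowers q5) (by rw [Nat.card_zpowers, ho5])
        (by norm_num; exact n25) hx, ← hN5]
      exact card_dvd_of_le (Subgroup.centralizer_le_normalizer _)
  have h7 : ∀ x : G, orderOf x = 7 → Nat.card (centralizer ({x} : Set G)) ∣ 2 ^ 3 * 3 ^ 2 * 5 * 7 :=
    fun x hx => by
      rw [cent_of_sylow_prime (Q := zpowers q7) (by rw [Nat.card_zpowers, ho7])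
        (by norm_num; exact n49) hx, ← hN7]
      exact card_dvd_of_le (Subgroup.centralizer_le_normalizer _)
  have h3 : ∀ x : G, orderOf x = 3 → ∃ c : G, c * p * c⁻¹ = x := fun x hx =>
    isConj_iff.1 (Cfsg.Agent.S5564.result hG hJ' p x hp hx)
  refine ⟨hcard, fun g hg => ?_, fun f hf h11 => ?_, fun s y hs hy hsy => ?_, ?_, ?_⟩
  · simp only [List.mem_cons, List.not_mem_nil, or_false] at hg
    rcases hg with hg | hg | hg | hg
    · by_cases hc : IsConj z g
      · obtain ⟨c, rfl⟩ := isConj_iff.1 hc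
        rw [card_centralizer_conj, show Nat.card (centralizer ({z} : Set G)) = _ from hH]
        norm_num
      · obtain ⟨V, K, hV, hK, hle, hVe, hVc, hi, hsup, ⟨eK⟩⟩ :=
          Cfsg.Agent.S5569.result hG z hzat' g hg hc
        have hnorm : (V.subgroupOf (centralizer ({g} : Set G))).Normal :=
          normal_subgroupOf_iff_le_normalizer hV |>.2 hle
        set C := centralizer ({g} : Set G) with hC
        have hcomp : (V.subgroupOf C).IsComplement' (K.subgroupOf C) := by
          refine isComplement'_of_disjoint_and_mul_eq_univ ?_ ?_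
          · rw [disjoint_iff_inf_le]
            rintro x ⟨hxV, hxK⟩
            have hx : (x : G) ∈ K ⊓ V := ⟨hxK, hxV⟩
            rw [hi, mem_bot] at hx
            exact mem_bot.2 (Subtype.ext hx)
          · rw [← normal_mul, ← Subgroup.subgroupOf_sup hV hK, sup_comm, hsup, subgroupOf_self]
            rfl
        rw [← hcomp.card_mul_card, Nat.card_congr (subgroupOfEquivOfLe hV).toEquiv, hVc,
          Nat.card_congr (subgroupOfEquivOfLe hK).toEquiv, Nat.card_congr eK.toEquiv,
          CoreP.card_aut]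
        norm_num
    · obtain ⟨c, rfl⟩ := h3 g hg
      rw [card_centralizer_conj, hCp]
      refine (card_dvd_of_le (inf_le_left : CP z P ≤ Cen z)).trans ?_
      rw [hH]; norm_num
    · exact (h5 g hg).trans (by norm_num)
    · exact (h7 g hg).trans (by norm_num)
  · rcases hf with hf | hf
    · exact absurd (h11.trans (h5 f hf)) (by norm_num)
    · exact absurd (h11.trans (h7 f hf)) (by norm_num)
  · obtain ⟨c, rfl⟩ := h3 s hs
    set y' := c⁻¹ * y * c with hy'
    have hmap : centralizer ({c * p * c⁻¹} : Set G) ⊓ centralizer ({y} : Set G) ≤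
        (centralizer ({p} : Set G) ⊓ centralizer ({y'} : Set G)).map (MulAut.conj c).toMonoidHom := by
      rintro g ⟨hg1, hg2⟩
      rw [mem_map_equiv, MulAut.conj_symm_apply]
      refine ⟨mem_centralizer_singleton_iff.2 ?_, mem_centralizer_singleton_iff.2 ?_⟩
      · have h := mem_centralizer_singleton_iff.1 hg1
        calc c⁻¹ * g * c * p = c⁻¹ * (g * (c * p * c⁻¹)) * c := by group
          _ = c⁻¹ * (c * p * c⁻¹ * g) * c := by rw [h]
          _ = p * (c⁻¹ * g * c) := by group
      · have h := mem_centralizer_singleton_iff.1 hg2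
        calc c⁻¹ * g * c * y' = c⁻¹ * (g * y) * c := by rw [hy']; group
          _ = c⁻¹ * (y * g) * c := by rw [h]
          _ = y' * (c⁻¹ * g * c) := by rw [hy']; group
    refine (card_dvd_of_le hmap).trans ?_
    rw [← Nat.card_congr ((centralizer ({p} : Set G) ⊓ centralizer ({y'} : Set G) :
      Subgroup G).equivMapOfInjective (MulAut.conj c).toMonoidHom (MulAut.conj c).injective).toEquiv]
    have hy'o : orderOf y' = 11 := by
      rw [hy', show c⁻¹ * y * c = MulAut.conj c⁻¹ y by simp, MulEquiv.orderOf_eq, hy]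
    have hy'p : y' ∈ CP z P := by
      rw [← hCp]
      refine mem_centralizer_singleton_iff.2 ?_
      calc y' * p = c⁻¹ * (y * (c * p * c⁻¹)) * c := by rw [hy']; group
        _ = c⁻¹ * (c * p * c⁻¹ * y) * c := by rw [hsy]
        _ = p * y' := by rw [hy']; group
    rw [hCp]
    -- inside the sixfold cover
    set X := CP z P with hX
    set Z := Subgroup.center X with hZdef
    let π : X →* Spor.M22 := eM.toMonoidHom.comp (QuotientGroup.mk' Z)
    have hker : π.ker = Z := by
      rw [MonoidHom.ker_comp_of_injective _ _ eM.injective, QuotientGroup.ker_mk']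
    set Y := (centralizer ({y'} : Set G)).subgroupOf X with hY
    have hcY : Nat.card Y = Nat.card ↥(X ⊓ centralizer ({y'} : Set G)) := by
      rw [hY, ← inf_subgroupOf_left, Nat.card_congr (subgroupOfEquivOfLe inf_le_left).toEquiv]
    rw [← hcY]
    have hπy : orderOf (π ⟨y', hy'p⟩) = 11 := by
      refine orderOf_eq_prime (hp := ⟨by norm_num⟩) ?_ fun h => ?_
      · rw [← map_pow, show (⟨y', hy'p⟩ : X) ^ 11 = 1 from
          Subtype.ext (by rw [SubmonoidClass.coe_pow, ← hy'o]; exact pow_orderOf_eq_one y'), map_one]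
      · rw [← MonoidHom.mem_ker, hker] at h
        have h2 := card_dvd_of_le (zpowers_le.2 h)
        rw [Nat.card_zpowers, Subgroup.orderOf_mk, hy'o, hZdef, hZ] at h2
        norm_num at h2
    have hd1 : Nat.card (Y.map π) ∣ 11 := by
      rw [← ClassK.M22Nse.cent_eleven CoreP.hypM22 hπy]
      refine card_dvd_of_le ?_
      rintro _ ⟨g, hg, rfl⟩
      refine mem_centralizer_singleton_iff.2 ?_
      rw [← map_mul, ← map_mul]
      exact congr_arg π (Subtype.ext (mem_centralizer_singleton_iff.1 hg))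
    have hd2 : Nat.card (π.ker.subgroupOf Y) ∣ 6 := by
      rw [hker, ← hZ, ← inf_subgroupOf_right, Nat.card_congr (subgroupOfEquivOfLe inf_le_right).toEquiv]
      exact card_dvd_of_le inf_le_left
    have h6 := Subgroup.card_mul_index (π.ker.subgroupOf Y)
    rw [← Subgroup.relIndex, Subgroup.relIndex_ker] at h6
    rw [← h6]
    exact (mul_dvd_mul hd2 hd1).trans (by norm_num)
  · obtain ⟨-, K, -, -, -, ⟨e⟩⟩ := Cfsg.Agent.S5567.result hG hJ' D.V D.elem D.card
    exact exists_two_power_move e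
  · obtain ⟨B, ⟨e⟩⟩ := hL5
    exact exists_move_thirtyone e

end CfsgLib.J4Type.BigPrimes
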