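import Cfsg.Agent.Lib.J4Type.BigPrimes.Arith

/-!
The Sylow subgroups of the five large primes, from the order of the group and a few facts on the
centralisers of elements of order `2`, `3`, `5`, `7`.
-/

set_option autoImplicit false
set_option linter.unusedSectionVars false
set_option linter.style.haveILetI false

namespace CfsgLib.J4Type.BigPrimes

open Subgroup

/-- The facts used. -/
structure Facts (G : Type*) [Group G] : Prop where
  card : Nat.card G = bigOrder
  cent_small : ∀ g : G, orderOf g ∈ ([2, 3, 5, 7] : List ℕ) →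
    Nat.card (centralizer ({g} : Set G)) ∣ 2 ^ 24 * 3 ^ 3 * 5 * 7 * 11
  not_eleven : ∀ f : G, orderOf f = 5 ∨ orderOf f = 7 →
    ¬ 11 ∣ Nat.card (centralizer ({f} : Set G))
  three_eleven : ∀ s y : G, orderOf s = 3 → orderOf y = 11 → s * y = y * s →
    Nat.card ↥(centralizer ({s} : Set G) ⊓ centralizer ({y} : Set G)) ∣ 66
  move23 : ∃ u b : G, orderOf u = 23 ∧ b * u * b⁻¹ = u ^ 2
  move31 : ∃ u b : G, orderOf u = 31 ∧ b * u * b⁻¹ = u ^ 2

variable {G : Type*} [Group G] [Finite G]

/-- The order of a centraliser divided by `p`, and the index of it in the normaliser. -/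
noncomputable def sylData (U : Subgroup G) : ℕ × ℕ :=
  (Nat.card (centralizer (U : Set G)) / Nat.card U,
    Nat.card (normalizer (U : Set G)) / Nat.card (centralizer (U : Set G)))

theorem prime_of_big {p : ℕ} (hp : p ∈ bigList) : p.Prime := by
  simp only [bigList, List.mem_cons, List.not_mem_nil, or_false] at hp
  rcases hp with rfl | rfl | rfl | rfl | rfl <;> norm_num

theorem cent_le_norm (U : Subgroup G) : centralizer (U : Set G) ≤ normalizer (U : Set G) :=
  Subgroup.centralizer_le_normalizer _

theorem cent_eq_of_zpowers {U : Subgroup G} {u : G} (h : U = zpowers u) :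
    centralizer (U : Set G) = centralizer ({u} : Set G) := by
  rw [h, Subgroup.zpowers_eq_closure, Subgroup.centralizer_closure]

theorem exists_gen_of_prime {p : ℕ} (hp : p.Prime) {U : Subgroup G} (hU : Nat.card U = p) :
    ∃ u : G, orderOf u = p ∧ U = zpowers u := by
  haveI : Fact p.Prime := ⟨hp⟩
  obtain ⟨⟨u, hu⟩, ho⟩ := exists_prime_orderOf_dvd_card' (G := U) p (by rw [hU])
  rw [Subgroup.orderOf_mk] at ho
  exact ⟨u, ho, (eq_of_le_of_card_ge (zpowers_le.2 hu) (by rw [Nat.card_zpowers, ho, hU])).symm⟩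

variable (F : Facts G)

include F

theorem bigOrder_eq : bigOrder = 2 ^ 21 * 3 ^ 3 * 5 * 7 * coreOrder := by
  norm_num [bigOrder, coreOrder]

theorem factorization_big {p : ℕ} (hp : p ∈ bigList) :
    (Nat.card G).factorization p = 1 := by
  have hp' := prime_of_big hp
  have h0 : Nat.card G ≠ 0 := Nat.card_pos.ne'
  refine le_antisymm ?_ ?_
  · by_contra h
    have h2 : p ^ 2 ∣ Nat.card G := (hp'.pow_dvd_iff_le_factorization h0).2 (by omega)
    rw [F.card] at h2
    simp only [bigList, List.mem_cons, List.not_mem_nil, or_false] at hp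
    rcases hp with rfl | rfl | rfl | rfl | rfl <;> norm_num [bigOrder] at h2
  · refine (hp'.pow_dvd_iff_le_factorization h0).1 ?_
    rw [pow_one, F.card]
    simp only [bigList, List.mem_cons, List.not_mem_nil, or_false] at hp
    rcases hp with rfl | rfl | rfl | rfl | rfl <;> norm_num [bigOrder]

/-- A subgroup of order `p` is a Sylow subgroup. -/
theorem exists_sylow {p : ℕ} (hp : p ∈ bigList) {U : Subgroup G} (hU : Nat.card U = p) :
    ∃ P : Sylow p G, (P : Subgroup G) = U := by
  haveI : Fact p.Prime := ⟨prime_of_big hp⟩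
  refine ⟨Sylow.ofCard U ?_, rfl⟩
  rw [factorization_big F hp, pow_one, hU]

theorem sylow_card {p : ℕ} (hp : p ∈ bigList) (P : Sylow p G) : Nat.card (P : Subgroup G) = p := by
  haveI : Fact p.Prime := ⟨prime_of_big hp⟩
  rw [P.card_eq_multiplicity, factorization_big F hp, pow_one]

theorem exists_order {p : ℕ} (hp : p ∈ bigList) : ∃ U : Subgroup G, Nat.card U = p := by
  haveI : Fact p.Prime := ⟨prime_of_big hp⟩
  exact ⟨((Classical.arbitrary (Sylow p G)) : Subgroup G), sylow_card F hp _⟩

/-- Subgroups of the same large prime order are conjugate. -/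
theorem exists_conj {p : ℕ} (hp : p ∈ bigList) {U W : Subgroup G} (hU : Nat.card U = p)
    (hW : Nat.card W = p) : ∃ g : G, U.map (MulAut.conj g).toMonoidHom = W := by
  haveI : Fact p.Prime := ⟨prime_of_big hp⟩
  obtain ⟨P, rfl⟩ := exists_sylow F hp hU
  obtain ⟨Q, rfl⟩ := exists_sylow F hp hW
  obtain ⟨g, hg⟩ := MulAction.exists_smul_eq G P Q
  exact ⟨g, by rw [← hg]; rfl⟩

theorem not_dvd_cent_small {p : ℕ} (hp : p ∈ bigList) {g : G}
    (hg : orderOf g ∈ ([2, 3, 5, 7] : List ℕ)) :
    ¬ p ∣ Nat.card (centralizer ({g} : Set G)) := fun h => by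
  have h1 := h.trans (F.cent_small g hg)
  simp only [bigList, List.mem_cons, List.not_mem_nil, or_false] at hp
  rcases hp with rfl | rfl | rfl | rfl | rfl <;> norm_num at h1

theorem small_not_dvd {p : ℕ} (hp : p ∈ bigList) {U : Subgroup G} (hU : Nat.card U = p) {r : ℕ}
    (hr : r ∈ ([2, 3, 5, 7] : List ℕ)) : ¬ r ∣ Nat.card (centralizer (U : Set G)) := by
  intro h
  have hr' : r.Prime := by
    simp only [List.mem_cons, List.not_mem_nil, or_false] at hr
    rcases hr with rfl | rfl | rfl | rfl <;> norm_num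
  haveI : Fact r.Prime := ⟨hr'⟩
  obtain ⟨⟨g, hg⟩, ho⟩ := exists_prime_orderOf_dvd_card' (G := centralizer (U : Set G)) r h
  rw [Subgroup.orderOf_mk] at ho
  refine not_dvd_cent_small F hp (g := g) (by rw [ho]; exact hr) ?_
  rw [← hU]
  refine card_dvd_of_le fun u hu => mem_centralizer_singleton_iff.2 ?_
  exact mem_centralizer_iff.1 hg u hu

theorem sylData_spec {p : ℕ} (hp : p ∈ bigList) {U : Subgroup G} (hU : Nat.card U = p) :
    Nat.card (centralizer (U : Set G)) = p * (sylData U).1 ∧
    Nat.card (normalizer (U : Set G)) = p * (sylData U).1 * (sylData U).2 ∧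
    sylData U ∈ cands p ∧ (sylData U).1 ∣ coreOrder ∧
    (∀ q ∈ bigList, q ≠ p → ∀ W : Subgroup G, Nat.card W = q →
      (q ∣ (sylData U).1 ↔ p ∣ Nat.card (centralizer (W : Set G)))) := by
  have hp' := prime_of_big hp
  haveI : Fact p.Prime := ⟨hp'⟩
  set C := centralizer (U : Set G) with hC
  obtain ⟨u, hu, hUu⟩ := exists_gen_of_prime hp' hU
  have hUC : U ≤ C := by
    rw [hC, cent_eq_of_zpowers hUu, hUu, zpowers_le]
    exact mem_centralizer_singleton_iff.2 rfl
  have hk : Nat.card C = p * (sylData U).1 := by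
    rw [sylData]; dsimp only
    rw [← hC, hU, Nat.mul_div_cancel' (hU ▸ card_dvd_of_le hUC)]
  have hn : Nat.card (normalizer (U : Set G)) = p * (sylData U).1 * (sylData U).2 := by
    rw [← hk, sylData]; dsimp only
    rw [← hC, Nat.mul_div_cancel' (card_dvd_of_le (cent_le_norm U))]
  have he : (sylData U).2 ∣ p - 1 := by
    set N := normalizer (U : Set G) with hN
    let f : N →* MulAut U := U.normalizerMonoidHom
    have hker : f.ker = C.subgroupOf N := Subgroup.normalizerMonoidHom_ker U
    have h1 : Nat.card f.range ∣ p - 1 := by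
      refine dvd_trans (card_subgroup_dvd_card _) ?_
      haveI : IsCyclic U := isCyclic_of_prime_card hU
      rw [IsCyclic.card_mulAut, hU, Nat.totient_prime hp']
    rw [← Subgroup.index_ker, hker, ← Subgroup.relIndex] at h1
    convert h1 using 1
    have h2 := Subgroup.card_mul_index (C.subgroupOf N)
    rw [Nat.card_congr (subgroupOfEquivOfLe (cent_le_norm U)).toEquiv, hn, ← hk] at h2
    exact (Nat.eq_of_mul_eq_mul_left Nat.card_pos h2).symm
  have hdG : p * (sylData U).1 * (sylData U).2 ∣ bigOrder :=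
    hn ▸ F.card ▸ card_subgroup_dvd_card _
  have hpk : ¬ p ∣ (sylData U).1 := fun h => by
    have h2 : p ^ 2 ∣ Nat.card G := by
      refine dvd_trans ?_ (card_subgroup_dvd_card C)
      rw [hk, pow_two]; exact mul_dvd_mul_left p h
    have := (hp'.pow_dvd_iff_le_factorization Nat.card_pos.ne').1 h2
    rw [factorization_big F hp] at this
    omega
  have hkc : (sylData U).1 ∣ coreOrder := by
    have h1 : (sylData U).1 ∣ 2 ^ 21 * 3 ^ 3 * 5 * 7 * coreOrder := by
      rw [← bigOrder_eq F]
      exact (dvd_mul_left _ _).trans ((dvd_mul_right _ _).trans hdG)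
    have hcop : ∀ r ∈ ([2, 3, 5, 7] : List ℕ), r.Prime → Nat.Coprime (sylData U).1 r :=
      fun r hr hrp => ((hrp.coprime_iff_not_dvd).2 fun h =>
        small_not_dvd F hp hU hr (by rw [hk]; exact h.mul_left p)).symm
    refine Nat.Coprime.dvd_of_dvd_mul_left ?_ h1
    refine Nat.Coprime.mul_right (Nat.Coprime.mul_right (Nat.Coprime.mul_right
      (Nat.Coprime.pow_right _ (hcop 2 (by simp) (by norm_num)))
      (Nat.Coprime.pow_right _ (hcop 3 (by simp) (by norm_num))))
      (hcop 5 (by simp) (by norm_num))) (hcop 7 (by simp) (by norm_num))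
  refine ⟨hk, hn, ?_, hkc, fun q hq hqp W hW => ?_⟩
  · refine mem_cands hkc hpk he hp'.one_lt hdG ?_
    obtain ⟨P, hP⟩ := exists_sylow F hp hU
    have h2 := P.card_eq_index_normalizer
    rw [show (P : Set G) = (U : Set G) by rw [← hP]; rfl] at h2
    have h3 : bigOrder / (p * (sylData U).1 * (sylData U).2) = Nat.card (Sylow p G) := by
      rw [h2, ← hn, ← F.card, ← Subgroup.card_mul_index (normalizer (U : Set G)),
        Nat.mul_div_cancel_left _ Nat.card_pos]
    have h4 : Nat.card (Sylow p G) % p = 1 % p := card_sylow_modEq_one p G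
    show bigOrder / (p * (sylData U).1 * (sylData U).2) % p = 1
    rw [h3, h4, Nat.mod_eq_of_lt hp'.one_lt]
  · have hq' := prime_of_big hq
    haveI : Fact q.Prime := ⟨hq'⟩
    constructor
    · intro h
      obtain ⟨⟨w, hw⟩, ho⟩ := exists_prime_orderOf_dvd_card' (G := C) q (by rw [hk]; exact h.mul_left p)
      rw [Subgroup.orderOf_mk] at ho
      have hW' : Nat.card (zpowers w) = q := by rw [Nat.card_zpowers, ho]
      obtain ⟨g, hg⟩ := exists_conj F hq hW' hW
      rw [← hg, ← hU, Nat.card_congr (U.equivMapOfInjective (MulAut.conj g).toMonoidHom (MulAut.conj g).injective).toEquiv]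
      refine card_dvd_of_le ?_
      rintro _ ⟨a, ha, rfl⟩
      refine mem_centralizer_iff.2 ?_
      rintro _ ⟨b, hb, rfl⟩
      rw [← map_mul, ← map_mul]
      congr 1
      obtain ⟨i, rfl⟩ := mem_zpowers_iff.1 hb
      exact ((show Commute w a from ((mem_centralizer_iff.1 hw) a ha).symm).zpow_left i).eq
    · intro h
      obtain ⟨⟨a, ha⟩, ho⟩ := exists_prime_orderOf_dvd_card' (G := centralizer (W : Set G)) p h
      rw [Subgroup.orderOf_mk] at ho
      have hU' : Nat.card (zpowers a) = p := by rw [Nat.card_zpowers, ho]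
      obtain ⟨g, hg⟩ := exists_conj F hp hU' hU
      have h1 : q ∣ Nat.card C := by
        rw [← hW, Nat.card_congr (W.equivMapOfInjective (MulAut.conj g).toMonoidHom (MulAut.conj g).injective).toEquiv]
        refine card_dvd_of_le ?_
        rintro _ ⟨b, hb, rfl⟩
        rw [hC, ← hg]
        refine mem_centralizer_iff.2 ?_
        rintro _ ⟨x, hx, rfl⟩
        rw [← map_mul, ← map_mul]
        congr 1
        obtain ⟨i, rfl⟩ := mem_zpowers_iff.1 hx
        exact ((show Commute a b from ((mem_centralizer_iff.1 ha) b hb).symm).zpow_left i).eq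
      rw [hk] at h1
      exact (hq'.dvd_mul.1 h1).resolve_left fun h' =>
        hqp ((Nat.prime_dvd_prime_iff_eq hq' hp').1 h')

/-- The data do not depend on the subgroup. -/
theorem sylData_eq {p : ℕ} (hp : p ∈ bigList) {U W : Subgroup G} (hU : Nat.card U = p)
    (hW : Nat.card W = p) : sylData U = sylData W := by
  obtain ⟨g, rfl⟩ := exists_conj F hp hU hW
  have hc : centralizer ((U.map (MulAut.conj g).toMonoidHom : Subgroup G) : Set G) =
      (centralizer (U : Set G)).map (MulAut.conj g).toMonoidHom := by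
    ext x
    rw [mem_map_equiv, mem_centralizer_iff, mem_centralizer_iff]
    constructor
    · intro h a ha
      have := h _ ⟨a, ha, rfl⟩
      apply (MulAut.conj g).injective
      rw [map_mul, map_mul, MulEquiv.apply_symm_apply]
      exact this
    · rintro h _ ⟨a, ha, rfl⟩
      have := congr_arg (MulAut.conj g) (h a ha)
      rwa [map_mul, map_mul, MulEquiv.apply_symm_apply] at this
  have hn : normalizer ((U.map (MulAut.conj g).toMonoidHom : Subgroup G) : Set G) =
      (normalizer (U : Set G)).map (MulAut.conj g).toMonoidHom :=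
    (map_equiv_normalizer_eq _ _).symm
  have hinj : Function.Injective (MulAut.conj g).toMonoidHom := (MulAut.conj g).injective
  rw [sylData, sylData, hc, hn, ← Nat.card_congr (U.equivMapOfInjective _ hinj).toEquiv,
    ← Nat.card_congr ((centralizer (U : Set G)).equivMapOfInjective _ hinj).toEquiv,
    ← Nat.card_congr ((normalizer (U : Set G)).equivMapOfInjective _ hinj).toEquiv]

theorem dir_ok {p q : ℕ} (hp : p ∈ bigList) (hq : q ∈ bigList) (hpq : q ≠ p) {U W : Subgroup G}
    (hU : Nat.card U = p) (hW : Nat.card W = q) : dirOK p q (sylData U) (sylData W) = true := by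
  obtain ⟨hk, hn, -, hkc, -⟩ := sylData_spec F hp hU
  refine dirOK_of hkc fun hqk hd => ?_
  have hq' := prime_of_big hq
  haveI : Fact q.Prime := ⟨hq'⟩
  set C := centralizer (U : Set G) with hC
  obtain ⟨⟨w, hw⟩, ho⟩ := exists_prime_orderOf_dvd_card' (G := C) q (by rw [hk]; exact hqk.mul_left p)
  rw [Subgroup.orderOf_mk] at ho
  set W' := zpowers w with hW'
  have hW'c : Nat.card W' = q := by rw [hW', Nat.card_zpowers, ho]
  have hle : W' ≤ C := zpowers_le.2 hw
  -- the Sylow subgroup of `C` is unique
  set T := W'.subgroupOf C with hT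
  have hTc : Nat.card T = q := by rw [hT, Nat.card_congr (subgroupOfEquivOfLe hle).toEquiv, hW'c]
  have hfac : Nat.card T = q ^ (Nat.card C).factorization q := by
    have h0 : Nat.card C ≠ 0 := Nat.card_pos.ne'
    have h1 : (Nat.card C).factorization q = 1 := by
      refine le_antisymm ?_ ?_
      · rw [← factorization_big F hq]
        exact (Nat.factorization_le_iff_dvd h0 Nat.card_pos.ne').2 (card_subgroup_dvd_card C) q
      · exact (hq'.pow_dvd_iff_le_factorization h0).1 (by rw [pow_one, hk]; exact hqk.mul_left p)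
    rw [h1, pow_one, hTc]
  let S : Sylow q C := Sylow.ofCard T hfac
  have hUT : U.subgroupOf C ≤ normalizer (T : Set C) := by
    intro x hx
    refine Subgroup.centralizer_le_normalizer _ (mem_centralizer_iff.2 fun t ht => Subtype.ext ?_)
    exact ((mem_centralizer_iff.1 t.2) x hx).symm
  have hS1 : Nat.card (Sylow q C) = 1 := by
    refine hd _ ?_ ?_
    · have h1 : Nat.card (Sylow q C) * (q * p) ∣ Nat.card C := by
        rw [S.card_eq_index_normalizer,
          ← Subgroup.card_mul_index (normalizer ((S : Subgroup C) : Set C)), mul_comm]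
        refine mul_dvd_mul_right ?_ _
        have hqn : q ∣ Nat.card (normalizer ((S : Subgroup C) : Set C)) := by
          have h5 := card_dvd_of_le (Subgroup.le_normalizer (H := T))
          rw [hTc] at h5
          exact h5
        have hpn : p ∣ Nat.card (normalizer ((S : Subgroup C) : Set C)) := by
          have hUC : U ≤ C := by
            obtain ⟨u, hu, hUu⟩ := exists_gen_of_prime (prime_of_big hp) hU
            rw [hC, cent_eq_of_zpowers hUu, hUu, zpowers_le]
            exact mem_centralizer_singleton_iff.2 rfl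
          rw [← hU, ← Nat.card_congr (subgroupOfEquivOfLe hUC).toEquiv]
          exact card_dvd_of_le hUT
        exact Nat.Coprime.mul_dvd_of_dvd_of_dvd
          ((Nat.coprime_primes hq' (prime_of_big hp)).2 hpq) hqn hpn
      rw [hk, ← mul_assoc, mul_comm p (sylData U).1] at h1
      have h2 := Nat.dvd_of_mul_dvd_mul_right (prime_of_big hp).pos h1
      obtain ⟨m, hm⟩ := hqk
      rw [hm, Nat.mul_div_cancel_left _ hq'.pos]
      rw [hm, mul_comm] at h2
      exact Nat.dvd_of_mul_dvd_mul_left hq'.pos h2
    · have h4 : Nat.card (Sylow q C) % q = 1 % q := card_sylow_modEq_one q C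
      rw [h4, Nat.mod_eq_of_lt hq'.one_lt]
  haveI : Subsingleton (Sylow q C) := (Nat.card_eq_one_iff_unique.1 hS1).1
  have hNle : normalizer (U : Set G) ≤ normalizer (W' : Set G) := by
    intro g hg
    rw [mem_normalizer_iff]
    have hgC : ∀ g ∈ normalizer (U : Set G), ∀ x ∈ C, g * x * g⁻¹ ∈ C := by
      intro g hg x hx
      refine mem_centralizer_iff.2 fun a ha => ?_
      have ha' : g⁻¹ * a * g ∈ U := by
        simpa using (mem_normalizer_iff.1 (inv_mem hg) a).1 ha
      have := (mem_centralizer_iff.1 hx) _ ha'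
      calc a * (g * x * g⁻¹) = g * ((g⁻¹ * a * g) * x) * g⁻¹ := by group
        _ = g * (x * (g⁻¹ * a * g)) * g⁻¹ := by rw [this]
        _ = g * x * g⁻¹ * a := by group
    suffices h : ∀ g ∈ normalizer (U : Set G), ∀ x ∈ W', g * x * g⁻¹ ∈ W' by
      intro x
      refine ⟨h g hg x, fun hx => ?_⟩
      simpa [mul_assoc] using h g⁻¹ (inv_mem hg) _ hx
    intro g hg x hx
    have hxC := hgC g hg x (hle hx)
    by_cases hx1 : g * x * g⁻¹ = 1
    · rw [hx1]; exact W'.one_mem
    set y : C := ⟨g * x * g⁻¹, hxC⟩ with hy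
    have hyo : orderOf y = q := by
      rw [hy, Subgroup.orderOf_mk, show g * x * g⁻¹ = MulAut.conj g x from rfl,
        MulEquiv.orderOf_eq]
      obtain ⟨i, rfl⟩ := mem_zpowers_iff.1 hx
      have h1 : orderOf (w ^ i) ∣ q := ho ▸ orderOf_dvd_of_mem_zpowers (zpow_mem_zpowers w i)
      exact (hq'.eq_one_or_self_of_dvd _ h1).resolve_left fun h => hx1 (by
        rw [orderOf_eq_one_iff.1 h]; simp)
    have hpy : IsPGroup q (zpowers y) := IsPGroup.of_card (n := 1) (by
      rw [Nat.card_zpowers, hyo, pow_one])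
    obtain ⟨S', hS'⟩ := hpy.exists_le_sylow
    rw [Subsingleton.elim S' S] at hS'
    exact mem_subgroupOf.1 (hS' (mem_zpowers y))
  rw [← hn, sylData_eq F hq hW hW'c, ← (sylData_spec F hq hW'c).2.1]
  exact card_dvd_of_le hNle

end CfsgLib.J4Type.BigPrimes
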