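import Cfsg.Agent.Lib.J4Type.BigPrimes.Local

/-!
The five large Sylow subgroups are self-centralising, with known normalisers.
-/

set_option autoImplicit false
set_option linter.unusedSectionVars false
set_option linter.style.haveILetI false

namespace CfsgLib.J4Type.BigPrimes

open Subgroup

variable {G : Type*} [Group G] [Finite G] (F : Facts G)

include F

/-- A move `u ↦ u ^ 2` gives the order of `2` modulo `p` as a divisor of the automiser. -/
theorem move_dvd {p r : ℕ} (hp : p ∈ bigList) (hr : r.Prime) (h2r : 2 ^ r % p = 1)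
    (h21 : 2 % p ≠ 1) {u b : G} (hu : orderOf u = p) (hb : b * u * b⁻¹ = u ^ 2) :
    r ∣ (sylData (zpowers u)).2 := by
  have hp' := prime_of_big hp
  haveI : Fact p.Prime := ⟨hp'⟩
  haveI : Fact r.Prime := ⟨hr⟩
  set U := zpowers u with hU
  have hUc : Nat.card U = p := by rw [hU, Nat.card_zpowers, hu]
  obtain ⟨hk, hn, -, -, -⟩ := sylData_spec F hp hUc
  have hbN : b ∈ normalizer (U : Set G) := by
    refine mem_normalizer_iff_map_conj_eq.2 ?_
    refine eq_of_le_of_card_ge ?_ ?_
    · rw [hU, MonoidHom.map_zpowers, zpowers_le]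
      change b * u * b⁻¹ ∈ zpowers u
      rw [hb]; exact pow_mem (mem_zpowers u) 2
    · rw [← Nat.card_congr (U.equivMapOfInjective _ (MulAut.conj b).injective).toEquiv]
  set C := centralizer (U : Set G) with hC
  set N := normalizer (U : Set G) with hN
  have hker : (U.normalizerMonoidHom).ker = C.subgroupOf N := Subgroup.normalizerMonoidHom_ker U
  set a := U.normalizerMonoidHom ⟨b, hbN⟩ with ha
  have hpow : ∀ m : ℕ, b ^ m * u * (b ^ m)⁻¹ = u ^ (2 ^ m) := by
    intro m
    induction m with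
    | zero => simp
    | succ m ih =>
      calc b ^ (m + 1) * u * (b ^ (m + 1))⁻¹ = b * (b ^ m * u * (b ^ m)⁻¹) * b⁻¹ := by
            rw [pow_succ']; group
        _ = (b * u * b⁻¹) ^ (2 ^ m) := by rw [ih, conj_pow]
        _ = u ^ (2 ^ (m + 1)) := by rw [hb, ← pow_mul, ← pow_succ']
  have hao : orderOf a = r := by
    refine orderOf_eq_prime ?_ fun e => ?_
    · rw [ha, ← map_pow, ← MonoidHom.mem_ker, hker, mem_subgroupOf]
      change b ^ r ∈ centralizer (U : Set G)
      rw [hU, Subgroup.zpowers_eq_closure, Subgroup.centralizer_closure,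
        mem_centralizer_singleton_iff]
      have h1 := hpow r
      rw [← pow_mod_orderOf u, hu, h2r, pow_one, mul_inv_eq_iff_eq_mul] at h1
      exact h1
    · rw [ha, ← MonoidHom.mem_ker, hker, mem_subgroupOf] at e
      change b ∈ centralizer (U : Set G) at e
      have h1 := (mem_centralizer_iff.1 e) u (mem_zpowers u)
      rw [← h1, mul_inv_cancel_right, eq_comm, ← pow_one u, ← pow_mul, one_mul,
        pow_eq_pow_iff_modEq, hu, Nat.ModEq, Nat.mod_eq_of_lt hp'.one_lt] at hb
      exact h21 hb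
  have h1 : r ∣ Nat.card (U.normalizerMonoidHom).range := by
    rw [← hao, ← Nat.card_zpowers]
    exact card_dvd_of_le (zpowers_le.2 ⟨⟨b, hbN⟩, rfl⟩)
  rw [← Subgroup.index_ker, hker] at h1
  have h2 := Subgroup.card_mul_index (C.subgroupOf N)
  rw [Nat.card_congr (subgroupOfEquivOfLe (cent_le_norm U)).toEquiv, hn, ← hk] at h2
  rwa [Nat.eq_of_mul_eq_mul_left Nat.card_pos h2] at h1

theorem pair_ok {p q : ℕ} (hp : p ∈ bigList) (hq : q ∈ bigList) (hpq : q ≠ p) {U W : Subgroup G}
    (hU : Nat.card U = p) (hW : Nat.card W = q) : pairOK p q (sylData U) (sylData W) = true := by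
  rw [pairOK, Bool.and_eq_true, Bool.and_eq_true, dir_ok F hp hq hpq hU hW,
    dir_ok F hq hp hpq.symm hW hU]
  refine ⟨?_, rfl, rfl⟩
  obtain ⟨-, -, -, -, h1⟩ := sylData_spec F hp hU
  obtain ⟨hkW, -, -, -, -⟩ := sylData_spec F hq hW
  have h2 : q ∣ (sylData U).1 ↔ p ∣ (sylData W).1 := by
    rw [h1 q hq hpq W hW, hkW, (prime_of_big hp).dvd_mul]
    refine or_iff_right fun h => hpq ?_
    exact ((Nat.prime_dvd_prime_iff_eq (prime_of_big hp) (prime_of_big hq)).1 h).symm
  rw [beq_iff_eq, Bool.eq_iff_iff, beq_iff_eq, beq_iff_eq, ← Nat.dvd_iff_mod_eq_zero,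
    ← Nat.dvd_iff_mod_eq_zero]
  exact h2

/-- The outcome of the arithmetic. -/
theorem patterns {U23 U29 U31 U37 U43 : Subgroup G} (h23 : Nat.card U23 = 23)
    (h29 : Nat.card U29 = 29) (h31 : Nat.card U31 = 31) (h37 : Nat.card U37 = 37)
    (h43 : Nat.card U43 = 43) :
    sylData U23 = (1, 22) ∧ sylData U29 = (1, 28) ∧
      (sylData U31 = (1, 10) ∨ sylData U31 = (11, 15)) ∧
      sylData U37 = (1, 12) ∧ sylData U43 = (1, 14) := by
  have m23 : 23 ∈ bigList := by simp [bigList]
  have m29 : 29 ∈ bigList := by simp [bigList]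
  have m31 : 31 ∈ bigList := by simp [bigList]
  have m37 : 37 ∈ bigList := by simp [bigList]
  have m43 : 43 ∈ bigList := by simp [bigList]
  have e23 : (sylData U23).2 % 11 = 0 := by
    obtain ⟨u, b, hu, hb⟩ := F.move23
    rw [sylData_eq F m23 h23 (W := zpowers u) (by rw [Nat.card_zpowers, hu])]
    exact Nat.mod_eq_zero_of_dvd
      (move_dvd F m23 (by norm_num) (by norm_num) (by norm_num) hu hb)
  have e31 : (sylData U31).2 % 5 = 0 := by
    obtain ⟨u, b, hu, hb⟩ := F.move31
    rw [sylData_eq F m31 h31 (W := zpowers u) (by rw [Nat.card_zpowers, hu])]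
    exact Nat.mod_eq_zero_of_dvd
      (move_dvd F m31 (by norm_num) (by norm_num) (by norm_num) hu hb)
  have hs := searchOK_true
  simp only [searchOK, List.all_eq_true, Bool.or_eq_true, Bool.not_eq_true', List.mem_filter,
    beq_iff_eq, and_imp] at hs
  have c23 := (sylData_spec F m23 h23).2.2.1
  have c29 := (sylData_spec F m29 h29).2.2.1
  have c31 := (sylData_spec F m31 h31).2.2.1
  have c37 := (sylData_spec F m37 h37).2.2.1
  have c43 := (sylData_spec F m43 h43).2.2.1
  have p1 := pair_ok F m23 m29 (by norm_num) h23 h29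
  have p2 := pair_ok F m23 m31 (by norm_num) h23 h31
  have p3 := pair_ok F m23 m37 (by norm_num) h23 h37
  have p4 := pair_ok F m23 m43 (by norm_num) h23 h43
  have p5 := pair_ok F m29 m31 (by norm_num) h29 h31
  have p6 := pair_ok F m29 m37 (by norm_num) h29 h37
  have p7 := pair_ok F m29 m43 (by norm_num) h29 h43
  have p8 := pair_ok F m31 m37 (by norm_num) h31 h37
  have p9 := pair_ok F m31 m43 (by norm_num) h31 h43
  have p10 := pair_ok F m37 m43 (by norm_num) h37 h43
  have := hs _ c23 e23 _ c29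
  simp only [p1, Bool.true_eq_false, false_or] at this
  have := this _ c31 e31
  simp only [p2, p5, Bool.and_self, Bool.true_eq_false, false_or] at this
  have := this _ c37
  simp only [p3, p6, p8, Bool.and_self, Bool.true_eq_false, false_or] at this
  have := this _ c43
  simp only [p4, p7, p9, p10, Bool.and_self, Bool.true_eq_false, false_or, Bool.and_eq_true,
    Bool.or_eq_true, beq_iff_eq] at this
  exact this

/-- The centraliser of an element of order eleven excludes the second pattern at `31`. -/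
theorem no_eleven_at_31 {U : Subgroup G} (hU : Nat.card U = 31) : sylData U ≠ (11, 15) := by
  intro hd
  have m31 : 31 ∈ bigList := by simp [bigList]
  obtain ⟨hk, hn, -, -, -⟩ := sylData_spec F m31 hU
  rw [hd] at hk hn
  norm_num at hk hn
  haveI : Fact (Nat.Prime 31) := ⟨by norm_num⟩
  haveI : Fact (Nat.Prime 11) := ⟨by norm_num⟩
  haveI : Fact (Nat.Prime 3) := ⟨by norm_num⟩
  set C := centralizer (U : Set G) with hC
  set N := normalizer (U : Set G) with hN
  obtain ⟨⟨y, hyC⟩, hy⟩ := exists_prime_orderOf_dvd_card' (G := C) 11 (by rw [hk]; norm_num)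
  rw [Subgroup.orderOf_mk] at hy
  obtain ⟨⟨s, hsN⟩, hs⟩ := exists_prime_orderOf_dvd_card' (G := N) 3 (by rw [hn]; norm_num)
  rw [Subgroup.orderOf_mk] at hs
  -- the unique subgroup of order eleven of the centraliser
  have hconjC : ∀ g ∈ N, ∀ x ∈ C, g * x * g⁻¹ ∈ C := by
    intro g hg x hx
    refine mem_centralizer_iff.2 fun a ha => ?_
    have ha' : g⁻¹ * a * g ∈ U := by
      simpa using (mem_normalizer_iff.1 (inv_mem hg) a).1 ha
    have := (mem_centralizer_iff.1 hx) _ ha'
    calc a * (g * x * g⁻¹) = g * ((g⁻¹ * a * g) * x) * g⁻¹ := by group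
      _ = g * (x * (g⁻¹ * a * g)) * g⁻¹ := by rw [this]
      _ = g * x * g⁻¹ * a := by group
  have hsy : s * y * s⁻¹ ∈ zpowers y := by
    have hfac : Nat.card (zpowers (⟨y, hyC⟩ : C)) = 11 ^ (Nat.card C).factorization 11 := by
      rw [Nat.card_zpowers, Subgroup.orderOf_mk, hy, hk,
        show 341 = 11 ^ 1 * 31 by norm_num, Nat.factorization_mul (by norm_num) (by norm_num),
        Finsupp.add_apply, Nat.Prime.factorization_pow (by norm_num : Nat.Prime 11),
        Finsupp.single_eq_same, Nat.factorization_eq_zero_of_not_dvd (by norm_num), add_zero,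
        pow_one]
    let S : Sylow 11 C := Sylow.ofCard _ hfac
    have h1 : Nat.card (Sylow 11 C) = 1 := by
      have hd1 : Nat.card (Sylow 11 C) ∣ Nat.card C := by
        rw [S.card_eq_index_normalizer]; exact index_dvd_card _
      rw [hk] at hd1
      have hm : Nat.card (Sylow 11 C) % 11 = 1 % 11 := card_sylow_modEq_one 11 C
      have : ∀ d ∈ Nat.divisors 341, d % 11 = 1 → d = 1 := by decide +kernel
      exact this _ (Nat.mem_divisors.2 ⟨hd1, by norm_num⟩) (by rw [hm])
    haveI : Subsingleton (Sylow 11 C) := (Nat.card_eq_one_iff_unique.1 h1).1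
    set y' : C := ⟨s * y * s⁻¹, hconjC s hsN y hyC⟩ with hy'
    have hy'o : orderOf y' = 11 := by
      rw [hy', Subgroup.orderOf_mk, show s * y * s⁻¹ = MulAut.conj s y from rfl,
        MulEquiv.orderOf_eq, hy]
    obtain ⟨S', hS'⟩ := (IsPGroup.of_card (n := 1) (show Nat.card (zpowers y') = 11 ^ 1 by
      rw [Nat.card_zpowers, hy'o, pow_one])).exists_le_sylow
    rw [Subsingleton.elim S' S] at hS'
    obtain ⟨i, hi⟩ := mem_zpowers_iff.1 (hS' (mem_zpowers y'))
    exact mem_zpowers_iff.2 ⟨i, congr_arg Subtype.val hi⟩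
  have hcomm : s * y = y * s := by
    have hfin : IsOfFinOrder y := isOfFinOrder_of_finite y
    obtain ⟨r, hr⟩ := hfin.mem_powers_iff_mem_zpowers.2 hsy
    change y ^ r = s * y * s⁻¹ at hr
    have h1 : ∀ m : ℕ, s ^ m * y * (s ^ m)⁻¹ = y ^ (r ^ m) := by
      intro m
      induction m with
      | zero => simp
      | succ m ih =>
        calc s ^ (m + 1) * y * (s ^ (m + 1))⁻¹ = s * (s ^ m * y * (s ^ m)⁻¹) * s⁻¹ := by
              rw [pow_succ']; group
          _ = (s * y * s⁻¹) ^ (r ^ m) := by rw [ih, conj_pow]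
          _ = y ^ (r ^ (m + 1)) := by rw [← hr, ← pow_mul, ← pow_succ']
    have h2 := h1 3
    rw [← hs, pow_orderOf_eq_one, one_mul, inv_one, mul_one, hs] at h2
    have h3 : r ^ 3 % 11 = 1 := by
      have := (pow_eq_pow_iff_modEq (x := y) (n := 1) (m := r ^ 3)).1 (by rw [pow_one]; exact h2)
      rw [hy] at this
      exact this.symm
    have h4 : r % 11 = 1 := by
      have hlt := Nat.mod_lt r (show 0 < 11 by norm_num)
      rw [Nat.pow_mod] at h3
      interval_cases h : r % 11 <;> first | rfl | (exfalso; norm_num at h3)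
    rw [← pow_mod_orderOf, hy, h4, pow_one] at hr
    calc s * y = s * y * s⁻¹ * s := by group
      _ = y * s := by rw [← hr]
  -- the centraliser of `y`
  set X := centralizer ({y} : Set G) with hX
  have hUX : U ≤ X := fun a ha => mem_centralizer_singleton_iff.2 ((mem_centralizer_iff.1 hyC) a ha)
  have hsX : s ∈ X := mem_centralizer_singleton_iff.2 hcomm
  have hyX : y ∈ X := mem_centralizer_singleton_iff.2 rfl
  have hno : ∀ f : G, orderOf f = 5 ∨ orderOf f = 7 → f ∉ X := fun f hf hfX => by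
    refine F.not_eleven f hf ?_
    rw [← hy, ← Nat.card_zpowers]
    exact card_dvd_of_le (zpowers_le.2 (mem_centralizer_singleton_iff.2
      (mem_centralizer_singleton_iff.1 hfX).symm))
  have h5 : ¬ 5 ∣ Nat.card X := fun h => by
    haveI : Fact (Nat.Prime 5) := ⟨by norm_num⟩
    obtain ⟨⟨f, hf⟩, hfo⟩ := exists_prime_orderOf_dvd_card' (G := X) 5 h
    rw [Subgroup.orderOf_mk] at hfo
    exact hno f (Or.inl hfo) hf
  have h7 : ¬ 7 ∣ Nat.card X := fun h => by
    haveI : Fact (Nat.Prime 7) := ⟨by norm_num⟩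
    obtain ⟨⟨f, hf⟩, hfo⟩ := exists_prime_orderOf_dvd_card' (G := X) 7 h
    rw [Subgroup.orderOf_mk] at hfo
    exact hno f (Or.inr hfo) hf
  obtain ⟨U23, h23⟩ := exists_order F (p := 23) (by simp [bigList])
  obtain ⟨U29, h29⟩ := exists_order F (p := 29) (by simp [bigList])
  obtain ⟨U37, h37⟩ := exists_order F (p := 37) (by simp [bigList])
  obtain ⟨U43, h43⟩ := exists_order F (p := 43) (by simp [bigList])
  obtain ⟨d23, d29, -, d37, d43⟩ := patterns F h23 h29 hU h37 h43
  have hbig : ∀ q ∈ bigList, q ≠ 31 → ¬ q ∣ Nat.card X := by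
    intro q hq hq31 h
    haveI : Fact q.Prime := ⟨prime_of_big hq⟩
    obtain ⟨⟨w, hw⟩, hwo⟩ := exists_prime_orderOf_dvd_card' (G := X) q h
    rw [Subgroup.orderOf_mk] at hwo
    have hW : Nat.card (zpowers w) = q := by rw [Nat.card_zpowers, hwo]
    obtain ⟨hkW, -, -, -, -⟩ := sylData_spec F hq hW
    have h1 : (sylData (zpowers w)).1 = 1 := by
      simp only [bigList, List.mem_cons, List.not_mem_nil, or_false] at hq
      rcases hq with rfl | rfl | rfl | rfl | rfl
      · rw [sylData_eq F (by simp [bigList]) hW h23, d23]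
      · rw [sylData_eq F (by simp [bigList]) hW h29, d29]
      · exact absurd rfl hq31
      · rw [sylData_eq F (by simp [bigList]) hW h37, d37]
      · rw [sylData_eq F (by simp [bigList]) hW h43, d43]
    rw [h1, mul_one] at hkW
    have h11 : 11 ∣ q := by
      rw [← hkW, ← hy, ← Nat.card_zpowers]
      refine card_dvd_of_le (zpowers_le.2 ?_)
      rw [Subgroup.zpowers_eq_closure, Subgroup.centralizer_closure,
        mem_centralizer_singleton_iff]
      exact (mem_centralizer_singleton_iff.1 hw).symm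
    simp only [bigList, List.mem_cons, List.not_mem_nil, or_false] at hq
    rcases hq with rfl | rfl | rfl | rfl | rfl <;> norm_num at h11
  have h3X : ¬ 9 ∣ Nat.card X := by
    intro h9
    obtain ⟨T, hT⟩ := Sylow.exists_subgroup_card_pow_prime 3 (n := 2) (G := X) (by simpa using h9)
    haveI : Nontrivial T := Finite.one_lt_card_iff_nontrivial.1 (by rw [hT]; norm_num)
    have hTp : IsPGroup 3 T := IsPGroup.of_card hT
    haveI := hTp.center_nontrivial
    obtain ⟨⟨⟨⟨w, hwX⟩, hwT⟩, hwc⟩, hwo⟩ := exists_prime_orderOf_dvd_card'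
      (G := Subgroup.center T) 3 (by
        obtain ⟨k, hk⟩ := IsPGroup.iff_card.1 (hTp.to_subgroup (Subgroup.center T))
        have h1 := Finite.one_lt_card (α := Subgroup.center T)
        rcases k with _ | k
        · rw [hk] at h1; norm_num at h1
        · rw [hk, pow_succ]; exact dvd_mul_left 3 _)
    rw [Subgroup.orderOf_mk, Subgroup.orderOf_mk, Subgroup.orderOf_mk] at hwo
    have h66 := F.three_eleven w y hwo hy (mem_centralizer_singleton_iff.1 hwX)
    have hle : T.map X.subtype ≤ centralizer ({w} : Set G) ⊓ centralizer ({y} : Set G) := by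
      rintro _ ⟨⟨t, htX⟩, htT, rfl⟩
      refine ⟨mem_centralizer_singleton_iff.2 ?_, htX⟩
      have := congr_arg (fun a : T => ((a : X) : G))
        (Subgroup.mem_center_iff.1 hwc ⟨⟨t, htX⟩, htT⟩)
      exact this
    have h2 := (card_dvd_of_le hle).trans h66
    rw [← Nat.card_congr (T.equivMapOfInjective _ X.subtype_injective).toEquiv, hT] at h2
    norm_num at h2
  have h121 : 121 ∣ Nat.card X := by
    have h3 : 11 ^ 3 ∣ Nat.card G := by rw [F.card]; norm_num [bigOrder]
    obtain ⟨S, hS⟩ := (IsPGroup.of_card (n := 1) (show Nat.card (zpowers y) = 11 ^ 1 by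
      rw [Nat.card_zpowers, hy, pow_one])).exists_le_sylow
    set Y := zpowers y ⊔ (Subgroup.center (S : Subgroup G)).map (S : Subgroup G).subtype with hY
    have hyS : y ∈ (S : Subgroup G) := hS (mem_zpowers y)
    have hSc : 11 ^ 3 ∣ Nat.card (S : Subgroup G) := by
      rw [S.card_eq_multiplicity]
      exact pow_dvd_pow 11 (((by norm_num : Nat.Prime 11).pow_dvd_iff_le_factorization
        Nat.card_pos.ne').1 h3)
    by_cases hyz : (⟨y, hyS⟩ : (S : Subgroup G)) ∈ Subgroup.center (S : Subgroup G)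
    · refine dvd_trans (dvd_trans (show 121 ∣ 11 ^ 3 by norm_num) hSc) (card_dvd_of_le ?_)
      intro t ht
      exact mem_centralizer_singleton_iff.2
        (congr_arg Subtype.val (Subgroup.mem_center_iff.1 hyz ⟨t, ht⟩))
    · haveI : Nontrivial (S : Subgroup G) := Finite.one_lt_card_iff_nontrivial.1
        (lt_of_lt_of_le (by norm_num) (Nat.le_of_dvd Nat.card_pos hSc))
      haveI := S.2.center_nontrivial
      obtain ⟨k, hk⟩ := IsPGroup.iff_card.1 (S.2.to_subgroup (Subgroup.center (S : Subgroup G)))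
      have h1 := Finite.one_lt_card (α := Subgroup.center (S : Subgroup G))
      have hk1 : 1 ≤ k := by
        rcases k with _ | k
        · rw [hk] at h1; norm_num at h1
        · omega
      set Z := (Subgroup.center (S : Subgroup G)).map (S : Subgroup G).subtype with hZ
      have hZc : Nat.card Z = 11 ^ k := by
        rw [← hk]
        exact (Nat.card_congr ((Subgroup.center (S : Subgroup G)).equivMapOfInjective _
          (S : Subgroup G).subtype_injective).toEquiv).symm
      have hZX : Z ≤ X := by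
        rintro _ ⟨⟨t, ht⟩, htc, rfl⟩
        exact mem_centralizer_singleton_iff.2
          (congr_arg Subtype.val (Subgroup.mem_center_iff.1 htc ⟨y, hyS⟩)).symm
      have hle : Y ≤ (S : Subgroup G) ⊓ X :=
        sup_le (le_inf hS (zpowers_le.2 hyX))
          (le_inf (fun t ht => by obtain ⟨t', -, rfl⟩ := ht; exact t'.2) hZX)
      obtain ⟨j, hj⟩ := IsPGroup.iff_card.1 (S.2.to_le (hle.trans inf_le_left))
      have hlt : Nat.card Z < Nat.card Y := by
        refine lt_of_le_of_ne (Nat.le_of_dvd Nat.card_pos (card_dvd_of_le le_sup_right)) fun he => ?_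
        have hZY := eq_of_le_of_card_ge (show Z ≤ Y from le_sup_right) he.ge
        have : y ∈ Z := hZY ▸ (le_sup_left : zpowers y ≤ Y) (mem_zpowers y)
        obtain ⟨t, htc, ht⟩ := this
        have : t = ⟨y, hyS⟩ := Subtype.ext ht
        exact hyz (this ▸ htc)
      rw [hZc, hj] at hlt
      have hkj : k < j := (Nat.pow_lt_pow_iff_right (by norm_num)).1 hlt
      refine dvd_trans ?_ (card_dvd_of_le (hle.trans inf_le_right))
      rw [hj]
      exact (show 121 = 11 ^ 2 by norm_num) ▸ pow_dvd_pow 11 (by omega)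
  -- counting the Sylow subgroups of `X`
  set U' := U.subgroupOf X with hU'
  have hU'c : Nat.card U' = 31 := by
    rw [hU', Nat.card_congr (subgroupOfEquivOfLe hUX).toEquiv, hU]
  have h31X : 31 ∣ Nat.card X := hU ▸ card_dvd_of_le hUX
  have hfac : Nat.card U' = 31 ^ (Nat.card X).factorization 31 := by
    have h1 : (Nat.card X).factorization 31 = 1 := by
      refine le_antisymm ?_ ?_
      · rw [← factorization_big F m31]
        exact (Nat.factorization_le_iff_dvd Nat.card_pos.ne' Nat.card_pos.ne').2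
          (card_subgroup_dvd_card X) 31
      · exact ((by norm_num : Nat.Prime 31).pow_dvd_iff_le_factorization Nat.card_pos.ne').1
          (by rwa [pow_one])
    rw [h1, pow_one, hU'c]
  let P : Sylow 31 X := Sylow.ofCard U' hfac
  have hNX : Nat.card (normalizer (U' : Set X)) = 1023 := by
    have hmap : (normalizer (U' : Set X)).map X.subtype = N ⊓ X := by
      ext g
      constructor
      · rintro ⟨⟨g, hg⟩, hgn, rfl⟩
        refine ⟨mem_normalizer_iff.2 fun a => ?_, hg⟩
        constructor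
        · intro ha
          exact (mem_normalizer_iff.1 hgn ⟨a, hUX ha⟩).1 ha
        · intro ha
          have haX : a ∈ X := by
            have := X.mul_mem (X.mul_mem (X.inv_mem hg) (hUX ha)) hg
            simpa [mul_assoc] using this
          exact (mem_normalizer_iff.1 hgn ⟨a, haX⟩).2 ha
      · rintro ⟨hgN, hgX⟩
        exact ⟨⟨g, hgX⟩, mem_normalizer_iff.2 fun a => mem_normalizer_iff.1 hgN (a : G), rfl⟩
    rw [Nat.card_congr ((normalizer (U' : Set X)).equivMapOfInjective _
      X.subtype_injective).toEquiv, hmap]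
    have hd1 : Nat.card ↥(N ⊓ X) ∣ 5115 := hn ▸ card_dvd_of_le inf_le_left
    have hd2 : ¬ 5 ∣ Nat.card ↥(N ⊓ X) := fun h => h5 (h.trans (card_dvd_of_le inf_le_right))
    have hd3 : 31 ∣ Nat.card ↥(N ⊓ X) :=
      hU ▸ card_dvd_of_le (le_inf Subgroup.le_normalizer hUX)
    have hd4 : 11 ∣ Nat.card ↥(N ⊓ X) := by
      rw [← hy, ← Nat.card_zpowers]
      exact card_dvd_of_le (zpowers_le.2 ⟨cent_le_norm U hyC, hyX⟩)
    have hd5 : 3 ∣ Nat.card ↥(N ⊓ X) := by
      rw [← hs, ← Nat.card_zpowers]
      exact card_dvd_of_le (zpowers_le.2 ⟨hsN, hsX⟩)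
    have : ∀ d ∈ Nat.divisors 5115, ¬ 5 ∣ d → 31 ∣ d → 11 ∣ d → 3 ∣ d → d = 1023 := by
      decide +kernel
    exact this _ (Nat.mem_divisors.2 ⟨hd1, by norm_num⟩) hd2 hd3 hd4 hd5
  have hn31 : Nat.card (Sylow 31 X) % 31 = 1 % 31 := card_sylow_modEq_one 31 X
  have hidx := Subgroup.card_mul_index (normalizer ((P : Subgroup X) : Set X))
  rw [show (normalizer ((P : Subgroup X) : Set X)).index = Nat.card (Sylow 31 X) from
    P.card_eq_index_normalizer.symm, show ((P : Subgroup X) : Set X) = (U' : Set X) from rfl, hNX]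
    at hidx
  set m := Nat.card (Sylow 31 X) with hm
  have hXG : Nat.card X ∣ bigOrder := F.card ▸ card_subgroup_dvd_card X
  rw [← hidx] at hXG h5 h7 h3X h121 hbig
  have hm1 : m ∣ 2 ^ 21 * 11 ^ 2 := by
    have h1 : m ∣ 2 ^ 21 * 3 ^ 2 * 5 * 7 * 11 ^ 2 * 23 * 29 * 37 * 43 := by
      refine Nat.dvd_of_mul_dvd_mul_left (show 0 < 1023 by norm_num) (hXG.trans (dvd_of_eq ?_))
      norm_num [bigOrder]
    have hcop : ∀ r : ℕ, r.Prime → ¬ r ∣ m → Nat.Coprime m r := fun r hr h =>
      ((hr.coprime_iff_not_dvd).2 h).symm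
    have c3 : ¬ 3 ∣ m := fun h => h3X (by
      rw [show 1023 * m = 341 * (3 * m) by ring]
      exact dvd_mul_of_dvd_right (show 9 ∣ 3 * m from mul_dvd_mul_left 3 h) _)
    have cq : ∀ q ∈ bigList, q ≠ 31 → Nat.Coprime m q := fun q hq h31 =>
      hcop q (prime_of_big hq) fun h => hbig q hq h31 (h.mul_left _)
    refine Nat.Coprime.dvd_of_dvd_mul_left ?_
      (show m ∣ 3 ^ 2 * 5 * 7 * 23 * 29 * 37 * 43 * (2 ^ 21 * 11 ^ 2) from
        h1.trans (dvd_of_eq (by norm_num)))
    exact Nat.Coprime.mul_right (Nat.Coprime.mul_right (Nat.Coprime.mul_right (Nat.Coprime.mul_right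
      (Nat.Coprime.mul_right (Nat.Coprime.mul_right
      (Nat.Coprime.pow_right _ (hcop 3 (by norm_num) c3))
      (hcop 5 (by norm_num) fun h => h5 (h.mul_left _)))
      (hcop 7 (by norm_num) fun h => h7 (h.mul_left _)))
      (cq 23 (by simp [bigList]) (by norm_num))) (cq 29 (by simp [bigList]) (by norm_num)))
      (cq 37 (by simp [bigList]) (by norm_num))) (cq 43 (by simp [bigList]) (by norm_num))
  have h11m : 11 ∣ m := by
    refine Nat.Coprime.dvd_of_dvd_mul_left (show Nat.Coprime 11 93 by norm_num) ?_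
    refine Nat.dvd_of_mul_dvd_mul_left (show 0 < 11 by norm_num) ?_
    rw [← mul_assoc]
    exact h121
  obtain ⟨m', hmm⟩ := h11m
  rw [hmm] at hm1 hn31
  have hm' : m' ∣ 2 ^ 21 * 11 :=
    Nat.dvd_of_mul_dvd_mul_left (show 0 < 11 by norm_num) (hm1.trans (dvd_of_eq (by norm_num)))
  have key : ∀ i < 22, ∀ j < 2, 11 * (2 ^ i * 11 ^ j) % 31 ≠ 1 := by decide +kernel
  obtain ⟨a, b, ha, hb, hab⟩ := Nat.dvd_mul.1 hm'
  obtain ⟨i, hi, rfl⟩ := (Nat.dvd_prime_pow (by norm_num)).1 ha
  rcases (Nat.dvd_prime (by norm_num : Nat.Prime 11)).1 hb with rfl | rfl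
  · refine key i (by omega) 0 (by norm_num) ?_
    rw [pow_zero, hab, hn31]
  · refine key i (by omega) 1 (by norm_num) ?_
    rw [pow_one, hab, hn31]

/-- The statement, for any subgroup of one of the five prime orders. -/
theorem main {p e : ℕ} (hp : (p, e) ∈ [(23, 22), (29, 28), (31, 10), (37, 12), (43, 14)])
    (P : Sylow p G) :
    centralizer ((P : Subgroup G) : Set G) = (P : Subgroup G) ∧
      Nat.card ↥(normalizer ((P : Subgroup G) : Set G)) = p * e := by
  obtain ⟨U23, h23⟩ := exists_order F (p := 23) (by simp [bigList])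
  obtain ⟨U29, h29⟩ := exists_order F (p := 29) (by simp [bigList])
  obtain ⟨U31, h31⟩ := exists_order F (p := 31) (by simp [bigList])
  obtain ⟨U37, h37⟩ := exists_order F (p := 37) (by simp [bigList])
  obtain ⟨U43, h43⟩ := exists_order F (p := 43) (by simp [bigList])
  obtain ⟨d23, d29, d31, d37, d43⟩ := patterns F h23 h29 h31 h37 h43
  replace d31 := d31.resolve_right (no_eleven_at_31 F h31)
  simp only [List.mem_cons, List.not_mem_nil, or_false, Prod.mk.injEq] at hp
  have hpb : p ∈ bigList := by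
    rcases hp with h | h | h | h | h <;> simp [bigList, h.1]
  haveI : Fact p.Prime := ⟨prime_of_big hpb⟩
  have hU := sylow_card F hpb P
  obtain ⟨hk, hn, -, -, -⟩ := sylData_spec F hpb hU
  have hd : sylData (P : Subgroup G) = (1, e) := by
    rcases hp with ⟨rfl, rfl⟩ | ⟨rfl, rfl⟩ | ⟨rfl, rfl⟩ | ⟨rfl, rfl⟩ | ⟨rfl, rfl⟩
    · rw [sylData_eq F hpb hU h23, d23]
    · rw [sylData_eq F hpb hU h29, d29]
    · rw [sylData_eq F hpb hU h31, d31]
    · rw [sylData_eq F hpb hU h37, d37]
    · rw [sylData_eq F hpb hU h43, d43]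
  rw [hd, mul_one] at hk hn
  refine ⟨(eq_of_le_of_card_ge ?_ (by rw [hk, hU])).symm, hn⟩
  obtain ⟨u, -, hu⟩ := exists_gen_of_prime (prime_of_big hpb) hU
  rw [cent_eq_of_zpowers hu, hu, zpowers_le]
  exact mem_centralizer_singleton_iff.2 rfl

end CfsgLib.J4Type.BigPrimes
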